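import Groth.Agent.LieSLib.Ext
import Mathlib.RingTheory.Nilpotent.Basic
import Mathlib.AlgebraicGeometry.Morphisms.UnderlyingMap
import Mathlib.AlgebraicGeometry.Morphisms.OpenImmersion

/-!
# Morphisms out of the spectrum of a ring descend to the equaliser of two ring maps,
when the inclusion of the equaliser is a bijection on reduced quotients.
-/

universe u

noncomputable section

open CategoryTheory CategoryTheory.Limits AlgebraicGeometry

namespace Groth.Agent.LieSLib

variable {A C : Type u} [CommRing A] [CommRing C]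

/-- Every element of `C` is an element of `A` up to a nilpotent. -/
def IsNilThick (φ : A →+* C) : Prop :=
  Function.Injective φ ∧ ∀ c, ∃ a, IsNilpotent (c - φ a)

theorem IsNilThick.comap_surjective {φ : A →+* C} (h : IsNilThick φ) :
    Function.Surjective (PrimeSpectrum.comap φ) := by
  intro p
  choose r hr using h.2
  have key : ∀ c a, IsNilpotent (c - φ a) →
      Ideal.Quotient.mk p.asIdeal (r c) = Ideal.Quotient.mk p.asIdeal a := by
    intro c a ha
    rw [Ideal.Quotient.eq]
    have h2 : IsNilpotent (φ (r c - a)) := by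
      rw [map_sub, show φ (r c) - φ a = (c - φ a) - (c - φ (r c)) by ring]
      exact (Commute.all _ _).isNilpotent_sub ha (hr c)
    obtain ⟨n, hn⟩ := (IsNilpotent.map_iff h.1).mp h2
    exact p.2.mem_of_pow_mem n (hn ▸ p.asIdeal.zero_mem)
  let R : C →+* A ⧸ p.asIdeal :=
    { toFun := fun c => Ideal.Quotient.mk _ (r c)
      map_one' := (key 1 1 (by simp)).trans (map_one _)
      map_zero' := (key 0 0 (by simp)).trans (map_zero _)
      map_add' := fun c d => (key (c + d) (r c + r d) (by
        rw [map_add, show c + d - (φ (r c) + φ (r d)) = (c - φ (r c)) + (d - φ (r d)) by ring]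
        exact (Commute.all _ _).isNilpotent_add (hr c) (hr d))).trans (map_add _ _ _)
      map_mul' := fun c d => (key (c * d) (r c * r d) (by
        rw [map_mul, show c * d - φ (r c) * φ (r d) = (c - φ (r c)) * d + φ (r c) * (d - φ (r d)) by ring]
        exact (Commute.all _ _).isNilpotent_add ((Commute.all _ _).isNilpotent_mul_right (hr c))
          ((Commute.all _ _).isNilpotent_mul_left (hr d)))).trans (map_mul _ _ _) }
  refine ⟨⟨RingHom.ker R, RingHom.ker_isPrime R⟩, ?_⟩
  ext a
  simp only [PrimeSpectrum.comap_asIdeal, Ideal.mem_comap, RingHom.mem_ker]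
  show Ideal.Quotient.mk _ (r (φ a)) = 0 ↔ _
  rw [key (φ a) a (by simp), Ideal.Quotient.eq_zero_iff_mem]

/-- The map on localisations. -/
abbrev awayMap (φ : A →+* C) (a : A) : Localization.Away a →+* Localization.Away (φ a) :=
  IsLocalization.Away.map (Localization.Away a) (Localization.Away (φ a)) φ a

theorem IsNilThick.away {φ : A →+* C} (h : IsNilThick φ) (a : A) : IsNilThick (awayMap φ a) := by
  refine ⟨(injective_iff_map_eq_zero _).mpr fun x hx =>
    away_map_jointly_injective (J := Unit) (C := fun _ => C) (fun _ => φ)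
      (fun s hs => h.1 ((hs ()).trans (map_zero _).symm)) a x (fun _ => hx), fun x => ?_⟩
  obtain ⟨⟨c, ⟨_, n, rfl⟩⟩, hx⟩ := IsLocalization.mk'_surjective (Submonoid.powers (φ a)) x
  obtain ⟨b, hb⟩ := h.2 c
  refine ⟨IsLocalization.mk' _ b (⟨a ^ n, n, rfl⟩ : Submonoid.powers a), ?_⟩
  rw [awayMap, IsLocalization.Away.map, IsLocalization.map_mk', ← hx]
  simp only [map_pow]
  rw [IsLocalization.mk'_eq_mul_mk'_one c, IsLocalization.mk'_eq_mul_mk'_one (φ b), ← sub_mul, ← map_sub]
  exact (Commute.all _ _).isNilpotent_mul_right (hb.map (algebraMap C (Localization.Away (φ a))))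

theorem specMap_injective {φ : A →+* C} (h : IsNilThick φ) {X : Scheme.{u}}
    {u v : Spec (CommRingCat.of A) ⟶ X}
    (e : Spec.map (CommRingCat.ofHom φ) ≫ u = Spec.map (CommRingCat.ofHom φ) ≫ v) : u = v :=
  ext_of_jointly_injective (J := Unit) (C := fun _ => C) (fun _ => φ)
    (fun s hs => h.1 ((hs ()).trans (map_zero _).symm)) (fun p => ⟨(), h.comap_surjective p⟩) fun _ => e

variable {E : Type u} [CommRing E]

/-- A morphism out of `Spec C` equalised by `ψ₁` and `ψ₂` descends to `Spec A`. -/
theorem exists_desc {φ : A →+* C} (h : IsNilThick φ) (ψ₁ ψ₂ : C →+* E)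
    (hψ : ψ₁.comp φ = ψ₂.comp φ) (heq : ∀ c, ψ₁ c = ψ₂ c → c ∈ φ.range) {X : Scheme.{u}}
    (w : Spec (CommRingCat.of C) ⟶ X)
    (hw : Spec.map (CommRingCat.ofHom ψ₁) ≫ w = Spec.map (CommRingCat.ofHom ψ₂) ≫ w) :
    ∃ z : Spec (CommRingCat.of A) ⟶ X, Spec.map (CommRingCat.ofHom φ) ≫ z = w := by
  classical
  -- the local descents
  have hloc : ∀ p : Spec (CommRingCat.of C), ∃ a : A, p ∈ PrimeSpectrum.basicOpen (φ a) ∧
      ∃ z : Spec (CommRingCat.of (Localization.Away a)) ⟶ X,
        Spec.map (CommRingCat.ofHom (awayMap φ a)) ≫ z =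
          Spec.map (CommRingCat.ofHom (algebraMap C (Localization.Away (φ a)))) ≫ w := by
    intro p
    obtain ⟨T, j, hj, hpj, -⟩ :=
      Scheme.exists_affine_mem_range_and_range_subset (X := X) (x := w p) (U := ⊤) trivial
    obtain ⟨_, ⟨c, rfl⟩, hpc, hsub⟩ := PrimeSpectrum.isTopologicalBasis_basic_opens.exists_subset_of_mem_open
      (show p ∈ (w ⁻¹' Set.range j) from hpj) ((j.isOpenEmbedding.isOpen_range).preimage w.continuous)
    obtain ⟨a, n, hn⟩ := h.2 c
    have hD : PrimeSpectrum.basicOpen (φ a) = PrimeSpectrum.basicOpen c := by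
      ext q
      have hmem : c - φ a ∈ q.asIdeal := q.2.mem_of_pow_mem n (hn ▸ q.asIdeal.zero_mem)
      constructor
      · intro hq hc
        exact hq (by simpa using sub_mem hc hmem)
      · intro hq ha
        exact hq (by simpa using add_mem hmem ha)
    refine ⟨a, hD ▸ hpc, ?_⟩
    set γ := algebraMap C (Localization.Away (φ a))
    have hu : Set.range (Spec.map (CommRingCat.ofHom γ) ≫ w) ⊆ Set.range j := by
      rintro _ ⟨q, rfl⟩
      refine hsub ?_
      show PrimeSpectrum.comap γ q ∈ (PrimeSpectrum.basicOpen c : Set (PrimeSpectrum C))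
      rw [← hD, ← PrimeSpectrum.localization_away_comap_range (Localization.Away (φ a)) (φ a)]
      exact ⟨q, rfl⟩
    obtain ⟨ω, hω⟩ := Spec.map_surjective (IsOpenImmersion.lift j _ hu)
    -- both composites to `E` agree
    have e12 : ψ₂ (φ a) = ψ₁ (φ a) := (RingHom.congr_fun hψ a).symm
    let P₁ : Localization.Away (φ a) →+* Localization.Away (ψ₁ (φ a)) := awayMap ψ₁ (φ a)
    let P₂ : Localization.Away (φ a) →+* Localization.Away (ψ₁ (φ a)) :=
      IsLocalization.map (M := Submonoid.powers (φ a)) (T := Submonoid.powers (ψ₁ (φ a)))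
        (Localization.Away (ψ₁ (φ a))) ψ₂
        (by rintro _ ⟨m, rfl⟩; exact ⟨m, by simp [e12]⟩)
    have hcomp : ω ≫ CommRingCat.ofHom P₁ = ω ≫ CommRingCat.ofHom P₂ := by
      apply Spec.map_injective
      rw [Spec.map_comp, Spec.map_comp, hω, ← cancel_mono j, Category.assoc, Category.assoc,
        IsOpenImmersion.lift_fac, ← Category.assoc, ← Category.assoc, ← Spec.map_comp, ← Spec.map_comp,
        ← CommRingCat.ofHom_comp, ← CommRingCat.ofHom_comp,
        show P₁.comp γ = (algebraMap E _).comp ψ₁ from IsLocalization.map_comp _,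
        show P₂.comp γ = (algebraMap E _).comp ψ₂ from IsLocalization.map_comp _]
      have hh := congrArg (Spec.map (CommRingCat.ofHom (algebraMap E (Localization.Away (ψ₁ (φ a))))) ≫ ·) hw
      simpa only [← Category.assoc, ← Spec.map_comp, ← CommRingCat.ofHom_comp] using hh
    have hrange : ∀ t, ω.hom t ∈ (awayMap φ a).range := by
      intro t
      obtain ⟨⟨c', ⟨_, m, rfl⟩⟩, hx⟩ := IsLocalization.mk'_surjective (Submonoid.powers (φ a)) (ω.hom t)
      have := congrArg (fun g : T ⟶ _ => g.hom t) hcomp
      change P₁ (ω.hom t) = P₂ (ω.hom t) at this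
      rw [← hx] at this
      simp only [P₁, P₂, awayMap, IsLocalization.Away.map, IsLocalization.map_mk', map_pow, e12] at this
      obtain ⟨⟨_, k, rfl⟩, hk⟩ := IsLocalization.eq.mp this
      simp only [← mul_assoc, ← pow_add] at hk
      have hk' : ψ₁ (φ a ^ (k + m) * c') = ψ₂ (φ a ^ (k + m) * c') := by
        simp only [map_mul, map_pow, e12]; exact hk
      obtain ⟨b, hb⟩ := heq _ hk'
      refine ⟨IsLocalization.mk' _ b (⟨a ^ (k + m + m), _, rfl⟩ : Submonoid.powers a), ?_⟩
      rw [awayMap, IsLocalization.Away.map, IsLocalization.map_mk', ← hx, hb]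
      refine IsLocalization.mk'_eq_of_eq ?_
      simp only [map_pow]
      ring
    have hbij : Function.Bijective (awayMap φ a).rangeRestrict :=
      ⟨fun x y e => (h.away a).1 (congrArg Subtype.val e), (awayMap φ a).rangeRestrict_surjective⟩
    let θ : T →+* Localization.Away a :=
      (RingEquiv.ofBijective (awayMap φ a).rangeRestrict hbij).symm.toRingHom.comp
        (ω.hom.codRestrict (awayMap φ a).range hrange)
    have hθ : (awayMap φ a).comp θ = ω.hom := by
      refine RingHom.ext fun t => ?_
      exact congrArg Subtype.val ((RingEquiv.ofBijective (awayMap φ a).rangeRestrict hbij).apply_symm_apply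
        (⟨ω.hom t, hrange t⟩ : (awayMap φ a).range))
    refine ⟨Spec.map (CommRingCat.ofHom θ) ≫ j, ?_⟩
    rw [← Category.assoc, ← Spec.map_comp, ← CommRingCat.ofHom_comp, hθ, CommRingCat.ofHom_hom, hω,
      IsOpenImmersion.lift_fac]
  choose a ha z hz using hloc
  have hspan : Ideal.span (Set.range a) = ⊤ := by
    rw [← PrimeSpectrum.iSup_basicOpen_eq_top_iff, eq_top_iff]
    intro q _
    obtain ⟨p, rfl⟩ := h.comap_surjective q
    exact TopologicalSpace.Opens.mem_iSup.mpr ⟨p, ha p⟩
  let 𝒰 := (Scheme.affineOpenCoverOfSpanRangeEqTop (R := CommRingCat.of A) a hspan).openCover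
  have hov : ∀ p q, pullback.fst (𝒰.f p) (𝒰.f q) ≫ z p = pullback.snd (𝒰.f p) (𝒰.f q) ≫ z q := by
    intro p q
    set b := a p * a q
    let l₁ : Localization.Away (a p) →+* Localization.Away b :=
      IsLocalization.Away.awayToAwayRight (a p) (a q)
    let l₂ : Localization.Away (a q) →+* Localization.Away b :=
      IsLocalization.Away.lift (a q) (g := algebraMap A (Localization.Away b))
        (IsLocalization.Away.isUnit_of_dvd b (dvd_mul_left (a q) (a p)))
    have hl₁ : l₁.comp (algebraMap A _) = algebraMap A (Localization.Away b) := IsLocalization.Away.lift_comp _ _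
    have hl₂ : l₂.comp (algebraMap A _) = algebraMap A (Localization.Away b) := IsLocalization.Away.lift_comp _ _
    let L : Spec (CommRingCat.of (Localization.Away b)) ⟶ pullback (𝒰.f p) (𝒰.f q) :=
      pullback.lift (Spec.map (CommRingCat.ofHom l₁)) (Spec.map (CommRingCat.ofHom l₂)) (by
        change Spec.map _ ≫ Spec.map (CommRingCat.ofHom (algebraMap A _)) =
          Spec.map _ ≫ Spec.map (CommRingCat.ofHom (algebraMap A _))
        rw [← Spec.map_comp, ← Spec.map_comp, ← CommRingCat.ofHom_comp, ← CommRingCat.ofHom_comp, hl₁, hl₂])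
    have hL : L ≫ pullback.fst (𝒰.f p) (𝒰.f q) ≫ 𝒰.f p =
        Spec.map (CommRingCat.ofHom (algebraMap A (Localization.Away b))) := by
      rw [pullback.lift_fst_assoc]
      change Spec.map _ ≫ Spec.map (CommRingCat.ofHom (algebraMap A _)) = _
      rw [← Spec.map_comp, ← CommRingCat.ofHom_comp, hl₁]
    have : IsOpenImmersion (Spec.map (CommRingCat.ofHom (algebraMap A (Localization.Away b)))) :=
      IsOpenImmersion.of_isLocalization b
    have : IsOpenImmersion (L ≫ pullback.fst (𝒰.f p) (𝒰.f q) ≫ 𝒰.f p) := hL ▸ this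
    have : IsOpenImmersion L := IsOpenImmersion.of_comp L (pullback.fst (𝒰.f p) (𝒰.f q) ≫ 𝒰.f p)
    have : Surjective L := by
      refine ⟨fun x => ?_⟩
      set g := pullback.fst (𝒰.f p) (𝒰.f q) ≫ 𝒰.f p
      have hr : ∀ i, Set.range (𝒰.f i) = (PrimeSpectrum.basicOpen (a i) : Set (PrimeSpectrum A)) := fun i =>
        PrimeSpectrum.localization_away_comap_range (Localization.Away (a i)) (a i)
      have h1 : g x ∈ (PrimeSpectrum.basicOpen (a p) : Set (PrimeSpectrum A)) := hr p ▸ ⟨_, rfl⟩
      have h2 : g x ∈ (PrimeSpectrum.basicOpen (a q) : Set (PrimeSpectrum A)) := by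
        rw [show g = pullback.snd (𝒰.f p) (𝒰.f q) ≫ 𝒰.f q from pullback.condition, ← hr q]
        exact ⟨_, rfl⟩
      have h3 : g x ∈ Set.range (Spec.map (CommRingCat.ofHom (algebraMap A (Localization.Away b)))) := by
        change _ ∈ Set.range (PrimeSpectrum.comap (algebraMap A (Localization.Away b)))
        rw [PrimeSpectrum.localization_away_comap_range (Localization.Away b) b, PrimeSpectrum.basicOpen_mul]
        exact ⟨h1, h2⟩
      obtain ⟨y, hy⟩ := h3
      exact ⟨y, g.isOpenEmbedding.injective (by rw [← hy, ← hL]; rfl)⟩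
    have : IsIso L := isIso_iff_isOpenImmersion_and_epi_base L |>.mpr
      ⟨inferInstance, (TopCat.epi_iff_surjective _).mpr L.surjective⟩
    rw [← cancel_epi L, pullback.lift_fst_assoc, pullback.lift_snd_assoc]
    apply specMap_injective (h.away b)
    set γ := algebraMap C (Localization.Away (φ b))
    have key : ∀ (i) (l : Localization.Away (a i) →+* Localization.Away b)
        (hl : l.comp (algebraMap A _) = algebraMap A (Localization.Away b)),
        Spec.map (CommRingCat.ofHom (awayMap φ b)) ≫ Spec.map (CommRingCat.ofHom l) ≫ z i =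
          Spec.map (CommRingCat.ofHom γ) ≫ w := by
      intro i l hl
      have hu : IsUnit (γ (φ (a i))) := by
        have : IsUnit (l (algebraMap A (Localization.Away (a i)) (a i))) :=
          (IsLocalization.Away.algebraMap_isUnit (a i)).map l
        rw [← RingHom.comp_apply l, hl] at this
        have := this.map (awayMap φ b)
        rwa [← RingHom.comp_apply (awayMap φ b), awayMap, IsLocalization.Away.map,
          IsLocalization.map_comp] at this
      let m : Localization.Away (φ (a i)) →+* Localization.Away (φ b) := IsLocalization.Away.lift (φ (a i)) hu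
      have hm : m.comp (algebraMap C _) = γ := IsLocalization.Away.lift_comp _ _
      have e : (awayMap φ b).comp l = m.comp (awayMap φ (a i)) := by
        refine IsLocalization.ringHom_ext (Submonoid.powers (a i)) (S := Localization.Away (a i)) ?_
        rw [RingHom.comp_assoc, RingHom.comp_assoc, hl, awayMap, awayMap, IsLocalization.Away.map,
          IsLocalization.Away.map, IsLocalization.map_comp, IsLocalization.map_comp, ← RingHom.comp_assoc, hm]
      rw [← Category.assoc, ← Spec.map_comp, ← CommRingCat.ofHom_comp, e, CommRingCat.ofHom_comp,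
        Spec.map_comp, Category.assoc, hz, ← Category.assoc, ← Spec.map_comp, ← CommRingCat.ofHom_comp, hm]
    exact (key p l₁ hl₁).trans (key q l₂ hl₂).symm
  refine ⟨𝒰.glueMorphisms z hov, ?_⟩
  have hspan' : Ideal.span (Set.range fun p => φ (a p)) = ⊤ := by
    rw [← PrimeSpectrum.iSup_basicOpen_eq_top_iff, eq_top_iff]
    exact fun q _ => TopologicalSpace.Opens.mem_iSup.mpr ⟨q, ha q⟩
  refine Scheme.Cover.hom_ext
    (Scheme.affineOpenCoverOfSpanRangeEqTop (R := CommRingCat.of C) (fun p => φ (a p)) hspan').openCover _ _ fun p => ?_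
  change Spec.map (CommRingCat.ofHom (algebraMap C _)) ≫ _ = Spec.map (CommRingCat.ofHom (algebraMap C _)) ≫ _
  rw [← hz p, ← Category.assoc, ← Spec.map_comp, ← CommRingCat.ofHom_comp,
    show (algebraMap C (Localization.Away (φ (a p)))).comp φ =
      (awayMap φ (a p)).comp (algebraMap A _) from (IsLocalization.map_comp _).symm,
    CommRingCat.ofHom_comp, Spec.map_comp, Category.assoc]
  congr 1
  exact 𝒰.ι_glueMorphisms z hov p

end Groth.Agent.LieSLib
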