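import Groth.Agent.LieSLib.Basic
import Groth.Agent.LieSLib.Desc
import Mathlib.RingTheory.DualNumber

/-!
# The bracket on dual-number points of a group scheme
-/

universe u

noncomputable section

open CategoryTheory MonoidalCategory CartesianMonoidalCategory MonObj AlgebraicGeometry

namespace Groth.Agent.LieSLib

set_option maxSynthPendingDepth 5

open LieS

variable {S : Scheme.{u}} {G : Over S} [GrpObj G] {B : Type u} [CommRing B]
variable {f : Spec (CommRingCat.of B) ⟶ S}
variable {C C' : Type u} [CommRing C] [Algebra B C] [CommRing C'] [Algebra B C']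

/-- A tangent vector, read along an element of square zero. -/
def ev (x : Lie G B f) (c : C) (hc : c * c = 0) : obj f C ⟶ G :=
  mor f (dualHom (algebraMap B C) c hc) (dualHom_comp_algebraMap _ _ _) ≫ x.1

theorem ev_congr (x : Lie G B f) {c d : C} (hc : c * c = 0) (hd : d * d = 0) (e : c = d) :
    ev x c hc = ev x d hd := by subst e; rfl

theorem mor_comp {A : Type u} [CommRing A] [Algebra B A] (φ : A →+* C) (h : φ.comp (algebraMap B A) = algebraMap B C)
    (ψ : C →+* C') (h' : ψ.comp (algebraMap B C) = algebraMap B C') :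
    mor f ψ h' ≫ mor f φ h = mor f (ψ.comp φ) (by rw [RingHom.comp_assoc, h, h']) := by
  refine Over.OverMorphism.ext ?_
  change Spec.map _ ≫ Spec.map _ = Spec.map _
  rw [specMap_comp]

theorem mor_ev (x : Lie G B f) (σ : C →+* C') (hσ : σ.comp (algebraMap B C) = algebraMap B C') {c : C}
    (hc : c * c = 0) {d : C'} (hd : d * d = 0) (e : σ c = d) :
    mor f σ hσ ≫ ev x c hc = ev x d hd := by
  rw [ev, ev, ← Category.assoc, mor_comp]
  congr 1
  refine Over.OverMorphism.ext ?_
  rw [mor_left, mor_left]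
  congr 2
  refine RingHom.ext fun z => ?_
  simp only [RingHom.comp_apply, dualHom_apply, map_add, map_mul, e, ← hσ]

theorem ev_mul (x y : Lie G B f) (c : C) (hc : c * c = 0) : ev (x * y) c hc = ev x c hc * ev y c hc :=
  MonObj.comp_mul _ _ _

theorem ev_one (c : C) (hc : c * c = 0) : ev (1 : Lie G B f) c hc = 1 := MonObj.comp_one _

theorem zeroSec_eq : zeroSec B f =
    (Over.homMk (𝟙 _) (by
      show 𝟙 _ ≫ Spec.map (CommRingCat.ofHom (algebraMap B B)) ≫ f = f
      rw [Category.id_comp, Algebra.algebraMap_self, CommRingCat.ofHom_id]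
      exact (congrArg (· ≫ f) (Spec.map_id _)).trans (Category.id_comp f)) : pt B f ⟶ obj f B) ≫
      mor f (TrivSqZeroExt.fstHom B B B).toRingHom (fstHom_comp_algebraMap B) := by
  refine Over.OverMorphism.ext ?_
  exact (Category.id_comp _).symm

theorem zeroSec_comp (x : Lie G B f) :
    mor f (TrivSqZeroExt.fstHom B B B).toRingHom (fstHom_comp_algebraMap B) ≫ x.1 = 1 := by
  have h := (mem_Lie_iff G B f x.1).mp x.2
  rw [zeroSec_eq] at h
  let a : pt B f ⟶ obj f B := Over.homMk (𝟙 _) (by
      show 𝟙 _ ≫ Spec.map (CommRingCat.ofHom (algebraMap B B)) ≫ f = f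
      rw [Category.id_comp, Algebra.algebraMap_self, CommRingCat.ofHom_id]
      exact (congrArg (· ≫ f) (Spec.map_id _)).trans (Category.id_comp f))
  have : Epi a := Over.epi_of_epi_left (hk := inferInstanceAs (Epi (𝟙 _))) a
  rw [← cancel_epi a, MonObj.comp_one]
  exact (Category.assoc _ _ _).symm.trans h

theorem ev_zero (x : Lie G B f) (c : C) (hc : c * c = 0) (h0 : c = 0) : ev x c hc = 1 := by
  have e : mor f (dualHom (algebraMap B C) c hc) (dualHom_comp_algebraMap _ _ _) =
      mor f (algebraMap B C) (by rw [Algebra.algebraMap_self, RingHom.comp_id]) ≫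
        mor f (TrivSqZeroExt.fstHom B B B).toRingHom (fstHom_comp_algebraMap B) := by
    rw [mor_comp]
    refine Over.OverMorphism.ext ?_
    rw [mor_left, mor_left]
    congr 2
    exact RingHom.ext fun z => by simp [h0]
  rw [ev, e, Category.assoc, zeroSec_comp, MonObj.comp_one]

theorem ev_smul (b : B) (x : Lie G B f) (c : C) (hc : c * c = 0)
    (hc' : algebraMap B C b * c * (algebraMap B C b * c) = 0) :
    ev (b • x) c hc = ev x (algebraMap B C b * c) hc' := by
  rw [ev, ev, smul_val]
  show mor f _ _ ≫ mor f (scaleHom b) (scaleHom_comp_algebraMap b) ≫ x.1 = _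
  rw [← Category.assoc, mor_comp]
  congr 1
  refine Over.OverMorphism.ext ?_
  rw [mor_left, mor_left]
  congr 2
  exact RingHom.ext fun z => by
    simp [scaleHom, TrivSqZeroExt.algebraMap_eq_inl', map_mul]; ring

theorem ev_inj {c : C} (hc : c * c = 0) (h : IsNilThick (dualHom (algebraMap B C) c hc))
    {x y : Lie G B f} (e : ev x c hc = ev y c hc) : x = y :=
  Subtype.ext (Over.OverMorphism.ext (specMap_injective h (congrArg CommaMorphism.left e)))

section D2

variable (B)

/-- The first coordinate of `D2`. -/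
abbrev e1 : D2 B := algebraMap (DualNumber B) (D2 B) DualNumber.eps

/-- The second coordinate of `D2`. -/
abbrev e2 : D2 B := DualNumber.eps

theorem e1_sq : e1 B * e1 B = 0 := by rw [← map_mul, eps_sq, map_zero]

theorem e2_sq : e2 B * e2 B = 0 := eps_sq _

theorem e12_sq : e1 B * e2 B * (e1 B * e2 B) = 0 := by
  linear_combination (e2 B * e2 B) * e1_sq B

theorem algebraMap_D2 : algebraMap B (D2 B) = toD2 B := by
  refine RingHom.ext fun b => ?_
  ext <;> simp [TrivSqZeroExt.algebraMap_eq_inl']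

theorem mulHom_eq : dualHom (algebraMap B (D2 B)) (e1 B * e2 B) (e12_sq B) = mulHom B := by
  refine RingHom.ext fun z => ?_
  simp [mulHom, algebraMap_D2]

theorem isNilThick_mulHom : IsNilThick (dualHom (algebraMap B (D2 B)) (e1 B * e2 B) (e12_sq B)) := by
  rw [mulHom_eq]
  refine ⟨(injective_iff_map_eq_zero _).mpr fun z hz => ?_, fun c => ⟨algebraMap B _ c.fst.fst, ?_⟩⟩
  · have a := congrArg (fun z : D2 B => z.fst.fst) hz
    have b := congrArg (fun z : D2 B => z.snd.snd) hz
    simp [mulHom, toD2, TrivSqZeroExt.algebraMap_eq_inl'] at a b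
    ext
    · simpa using a
    · simpa using b
  · rw [TrivSqZeroExt.isNilpotent_iff_isNilpotent_fst, TrivSqZeroExt.isNilpotent_iff_isNilpotent_fst]
    simp [mulHom, toD2, TrivSqZeroExt.algebraMap_eq_inl']

end D2

variable (G f) in
/-- The commutator of two points. -/
def com {T : Over S} (X Y : T ⟶ G) : T ⟶ G := X * Y * X⁻¹ * Y⁻¹

omit [Algebra B C] in
theorem comp_com {T T' : Over S} (g : T' ⟶ T) (X Y : T ⟶ G) :
    g ≫ com G X Y = com G (g ≫ X) (g ≫ Y) := by
  simp only [com, MonObj.comp_mul, GrpObj.comp_inv]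

theorem exists_br (x y : Lie G B f) :
    ∃ z : Lie G B f, com G (ev x (e2 B) (e2_sq B)) (ev y (e1 B) (e1_sq B)) =
      ev z (e1 B * e2 B) (e12_sq B) := by
  set c := com G (ev x (e2 B) (e2_sq B)) (ev y (e1 B) (e1_sq B))
  have hz0 : (0 : DualNumber B) * 0 = 0 := mul_zero 0
  let qa : D2 B →+* DualNumber B := (TrivSqZeroExt.fstHom (DualNumber B) (DualNumber B) (DualNumber B)).toRingHom
  let qb : D2 B →+* DualNumber B := bcHom (TrivSqZeroExt.fstHom B B B).toRingHom
  let qi : D2 B →+* DualNumber B := ((algebraMap B (DualNumber B)).comp (TrivSqZeroExt.fstHom B B B).toRingHom).comp qa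
  have ha : qa.comp (algebraMap B (D2 B)) = algebraMap B _ := RingHom.ext fun b => by
    simp [qa, algebraMap_D2, toD2, TrivSqZeroExt.algebraMap_eq_inl']
  have hb : qb.comp (algebraMap B (D2 B)) = algebraMap B _ := RingHom.ext fun b => by
    simp [qb, bcHom, algebraMap_D2, toD2, TrivSqZeroExt.algebraMap_eq_inl']
  have hi : qi.comp (algebraMap B (D2 B)) = algebraMap B _ := RingHom.ext fun b => by
    simp [qi, qa, algebraMap_D2, toD2, TrivSqZeroExt.algebraMap_eq_inl']
  have hca : mor f qa ha ≫ c = 1 := by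
    rw [comp_com, mor_ev (C := D2 B) x qa ha _ hz0 (by simp [qa, e2]),
      ev_zero x _ _ rfl]
    simp [com]
  have hcb : mor f qb hb ≫ c = 1 := by
    rw [comp_com, mor_ev (C := D2 B) y qb hb _ hz0 (by simp [qb, e1, bcHom, TrivSqZeroExt.algebraMap_eq_inl']),
      ev_zero y _ _ rfl]
    simp [com]
  have hci : mor f qi hi ≫ c = 1 := by
    rw [comp_com, mor_ev (C := D2 B) x qi hi _ hz0 (by simp [qi, qa, e2]), ev_zero x _ _ rfl]
    simp [com, mor_ev (C := D2 B) y qi hi (e1_sq B) hz0 (by simp [qi, qa, e1, TrivSqZeroExt.algebraMap_eq_inl']),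
      ev_zero y _ hz0 rfl]
  have hψ : Spec.map (CommRingCat.ofHom (qa.prod qb)) ≫ c.left =
      Spec.map (CommRingCat.ofHom (qi.prod qi)) ≫ c.left := by
    refine ext_of_jointly_injective (J := Bool) (C := fun _ => DualNumber B)
      (fun b => bif b then RingHom.fst _ _ else RingHom.snd _ _)
      (fun s hs => Prod.ext (hs true) (hs false)) (fun p => ?_) fun b => ?_
    · by_cases h : ((1, 0) : DualNumber B × DualNumber B) ∈ p.asIdeal
      · refine ⟨false, ?_⟩
        rw [cond_false, range_comap_of_surjective _ (RingHom.snd (DualNumber B) (DualNumber B)) (fun d => ⟨(0, d), rfl⟩)]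
        intro z hz
        have : z = z * (1, 0) := Prod.ext (by simp) (by simpa using hz)
        rw [this]; exact p.asIdeal.mul_mem_left _ h
      · refine ⟨true, ?_⟩
        rw [cond_true, range_comap_of_surjective _ (RingHom.fst (DualNumber B) (DualNumber B)) (fun d => ⟨(d, 0), rfl⟩)]
        intro z hz
        refine (p.2.mem_or_mem (show z * (1, 0) ∈ p.asIdeal from ?_)).resolve_right h
        rw [show z * (1, 0) = 0 from Prod.ext (by simpa using hz) (by simp)]
        exact p.asIdeal.zero_mem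
    · rw [← Category.assoc, ← Category.assoc, ← Spec.map_comp, ← Spec.map_comp, ← CommRingCat.ofHom_comp,
        ← CommRingCat.ofHom_comp]
      cases b
      · exact (congrArg CommaMorphism.left hcb).trans (congrArg CommaMorphism.left hci).symm
      · exact (congrArg CommaMorphism.left hca).trans (congrArg CommaMorphism.left hci).symm
  have heq : ∀ z : D2 B, qa.prod qb z = qi.prod qi z →
      z ∈ (dualHom (algebraMap B (D2 B)) (e1 B * e2 B) (e12_sq B)).range := by
    intro z hz
    have h1 := congrArg (fun w : DualNumber B × DualNumber B => w.1.snd) hz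
    have h2 := congrArg (fun w : DualNumber B × DualNumber B => w.2.snd) hz
    simp [qa, qb, qi, bcHom, TrivSqZeroExt.algebraMap_eq_inl'] at h1 h2
    refine ⟨TrivSqZeroExt.inl z.fst.fst + TrivSqZeroExt.inr z.snd.snd, ?_⟩
    rw [mulHom_eq]
    ext <;> simp [mulHom, toD2, TrivSqZeroExt.algebraMap_eq_inl', h1, h2]
  have hcomp : (qa.prod qb).comp (dualHom (algebraMap B (D2 B)) (e1 B * e2 B) (e12_sq B)) =
      (qi.prod qi).comp (dualHom (algebraMap B (D2 B)) (e1 B * e2 B) (e12_sq B)) := by
    rw [mulHom_eq]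
    refine RingHom.ext fun z => ?_
    refine Prod.ext ?_ ?_ <;>
      ext <;> simp [qa, qb, qi, bcHom, mulHom, toD2, TrivSqZeroExt.algebraMap_eq_inl']
  obtain ⟨z, hz⟩ := exists_desc (isNilThick_mulHom B) _ _ hcomp heq c.left hψ
  have hw : z ≫ G.hom = (dpt B f).hom := by
    apply specMap_injective (isNilThick_mulHom B)
    rw [← Category.assoc, hz, Over.w c]
    show Spec.map _ ≫ f = Spec.map _ ≫ Spec.map _ ≫ f
    rw [← Category.assoc, specMap_comp, dualHom_comp_algebraMap]
  let z' : dpt B f ⟶ G := Over.homMk z hw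
  have hzc : mor f (dualHom (algebraMap B (D2 B)) (e1 B * e2 B) (e12_sq B)) (dualHom_comp_algebraMap _ _ _) ≫ z' = c :=
    Over.OverMorphism.ext hz
  refine ⟨⟨z', ?_⟩, hzc.symm⟩
  rw [mem_Lie_iff, zeroSec_eq]
  refine (Category.assoc _ _ _).trans ?_
  let s : D2 B →+* B := (TrivSqZeroExt.fstHom B B B).toRingHom.comp qa
  have hs : s.comp (algebraMap B (D2 B)) = algebraMap B B := by
    rw [RingHom.comp_assoc, ha, fstHom_comp_algebraMap]; rfl
  have : mor f (TrivSqZeroExt.fstHom B B B).toRingHom (fstHom_comp_algebraMap B) =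
      mor f s hs ≫ mor f (dualHom (algebraMap B (D2 B)) (e1 B * e2 B) (e12_sq B)) (dualHom_comp_algebraMap _ _ _) := by
    rw [mor_comp]
    refine Over.OverMorphism.ext ?_
    rw [mor_left, mor_left]
    congr 2
    exact RingHom.ext fun w => by simp [s, qa, algebraMap_D2, toD2, TrivSqZeroExt.algebraMap_eq_inl']
  erw [this, Category.assoc, hzc]
  rw [comp_com, mor_ev (C := D2 B) x s hs _ (mul_zero (0 : B)) (by simp [s, qa, e2]),
    ev_zero x _ _ rfl]
  simp [com]

/-- The bracket. -/
def br (x y : Lie G B f) : Lie G B f := (exists_br x y).choose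

theorem br_spec (x y : Lie G B f) :
    com G (ev x (e2 B) (e2_sq B)) (ev y (e1 B) (e1_sq B)) = ev (br x y) (e1 B * e2 B) (e12_sq B) :=
  (exists_br x y).choose_spec

/-- The commutator of two tangent vectors read along any two elements of square zero. -/
theorem com_ev (x y : Lie G B f) (s t : C) (hs : s * s = 0) (ht : t * t = 0) (hst : t * s * (t * s) = 0) :
    com G (ev x s hs) (ev y t ht) = ev (br x y) (t * s) hst := by
  let θ : D2 B →+* C := dualHom (dualHom (algebraMap B C) t ht) s hs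
  have hθ : θ.comp (algebraMap B (D2 B)) = algebraMap B C := RingHom.ext fun b => by
    simp [θ, algebraMap_D2, toD2, TrivSqZeroExt.algebraMap_eq_inl']
  have h1 : θ (e1 B) = t := by simp [θ, e1, TrivSqZeroExt.algebraMap_eq_inl']
  have h2 : θ (e2 B) = s := by simp [θ, e2]
  rw [← mor_ev (C := D2 B) x θ hθ (e2_sq B) hs h2, ← mor_ev (C := D2 B) y θ hθ (e1_sq B) ht h1, ← comp_com, br_spec,
    mor_ev (C := D2 B) _ θ hθ (e12_sq B) hst (by rw [map_mul, h1, h2])]

theorem commute_of_com {T : Over S} {X Y : T ⟶ G} (h : com G X Y = 1) : Commute X Y := by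
  rw [com, mul_inv_eq_one, mul_inv_eq_iff_eq_mul] at h
  exact h

theorem commute_ev (x y : Lie G B f) (s t : C) (hs : s * s = 0) (ht : t * t = 0) (hst : t * s = 0) :
    Commute (ev x s hs) (ev y t ht) :=
  commute_of_com ((com_ev x y s t hs ht (by rw [hst, zero_mul])).trans (ev_zero _ _ _ hst))

theorem br_unique {x y z : Lie G B f}
    (h : com G (ev x (e2 B) (e2_sq B)) (ev y (e1 B) (e1_sq B)) = ev z (e1 B * e2 B) (e12_sq B)) : br x y = z :=
  ev_inj _ (isNilThick_mulHom B) ((br_spec x y).symm.trans h)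

theorem br_mul_left (x x' y : Lie G B f) : br (x * x') y = br x y * br x' y := by
  refine br_unique ?_
  have hc := (commute_ev (C := D2 B) x (br x' y) (e2 B) (e1 B * e2 B) (e2_sq B) (e12_sq B) (by linear_combination e1 B * e2_sq B)).eq
  have hc2 := (commute_ev (C := D2 B) (br x y) (br x' y) (e1 B * e2 B) (e1 B * e2 B) (e12_sq B) (e12_sq B) (e12_sq B)).eq
  rw [ev_mul, ev_mul, ← br_spec x y, ← br_spec x' y] at *
  set X := ev x (e2 B) (e2_sq B)
  set X' := ev x' (e2 B) (e2_sq B)
  set Y := ev y (e1 B) (e1_sq B)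
  have : com G (X * X') Y = X * com G X' Y * X⁻¹ * com G X Y := by simp only [com]; group
  rw [this, hc, mul_inv_cancel_right, hc2]

theorem br_mul_right (x y y' : Lie G B f) : br x (y * y') = br x y * br x y' := by
  refine br_unique ?_
  have hc := (commute_ev (C := D2 B) y (br x y') (e1 B) (e1 B * e2 B) (e1_sq B) (e12_sq B)
    (by linear_combination e2 B * e1_sq B)).eq
  rw [ev_mul, ev_mul, ← br_spec x y, ← br_spec x y'] at *
  set X := ev x (e2 B) (e2_sq B)
  set Y := ev y (e1 B) (e1_sq B)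
  set Y' := ev y' (e1 B) (e1_sq B)
  have : com G X (Y * Y') = com G X Y * (Y * com G X Y' * Y⁻¹) := by simp only [com]; group
  rw [this, hc, mul_inv_cancel_right]

theorem sq_mul {b : B} {c : C} (hc : c * c = 0) : algebraMap B C b * c * (algebraMap B C b * c) = 0 := by
  rw [_root_.mul_mul_mul_comm, hc, mul_zero]

theorem br_smul_left (b : B) (x y : Lie G B f) : br (b • x) y = b • br x y := by
  refine br_unique ?_
  rw [ev_smul b x _ _ (sq_mul (C := D2 B) (e2_sq B)), ev_smul b _ _ _ (sq_mul (C := D2 B) (e12_sq B)),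
    com_ev (C := D2 B) x y _ _ _ _ (by linear_combination (algebraMap B (D2 B) b * algebraMap B (D2 B) b) * e12_sq B)]
  exact ev_congr _ _ _ (by ring)

theorem br_smul_right (b : B) (x y : Lie G B f) : br x (b • y) = b • br x y := by
  refine br_unique ?_
  rw [ev_smul b y _ _ (sq_mul (C := D2 B) (e1_sq B)), ev_smul b _ _ _ (sq_mul (C := D2 B) (e12_sq B)),
    com_ev (C := D2 B) x y _ _ _ _ (by linear_combination (algebraMap B (D2 B) b * algebraMap B (D2 B) b) * e12_sq B)]
  exact ev_congr _ _ _ (by ring)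

theorem br_self (x : Lie G B f) : br x x = 1 := by
  refine br_unique ?_
  rw [ev_one]
  set w := ev x (e2 B) (e2_sq B) * ev x (e1 B) (e1_sq B) with hw
  let qa : D2 B →+* DualNumber B := (TrivSqZeroExt.fstHom (DualNumber B) (DualNumber B) (DualNumber B)).toRingHom
  let qb : D2 B →+* DualNumber B := bcHom (TrivSqZeroExt.fstHom B B B).toRingHom
  have hal : ∀ b : B, algebraMap B (D2 B) b ∈ RingHom.eqLocus qa qb := fun b => by
    show qa _ = qb _
    simp [qa, qb, bcHom, algebraMap_D2, toD2, TrivSqZeroExt.algebraMap_eq_inl']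
  have hthick : IsNilThick (A := ↥(RingHom.eqLocus qa qb)) (C := D2 B) (RingHom.eqLocus qa qb).subtype := by
    refine ⟨Subtype.val_injective, fun c => ⟨⟨_, hal c.fst.fst⟩, ?_⟩⟩
    rw [TrivSqZeroExt.isNilpotent_iff_isNilpotent_fst, TrivSqZeroExt.isNilpotent_iff_isNilpotent_fst]
    simp [algebraMap_D2, toD2, TrivSqZeroExt.algebraMap_eq_inl']
  have hz : (0 : DualNumber B) * 0 = 0 := mul_zero 0
  have ha : qa.comp (algebraMap B (D2 B)) = algebraMap B _ := RingHom.ext fun b => by
    simp [qa, algebraMap_D2, toD2, TrivSqZeroExt.algebraMap_eq_inl']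
  have hb : qb.comp (algebraMap B (D2 B)) = algebraMap B _ := RingHom.ext fun b => by
    simp [qb, bcHom, algebraMap_D2, toD2, TrivSqZeroExt.algebraMap_eq_inl']
  have hab : mor f qa ha ≫ w = mor f qb hb ≫ w := by
    rw [hw, MonObj.comp_mul, MonObj.comp_mul, mor_ev (C := D2 B) x qa ha _ hz (by simp [qa, e2]),
      mor_ev (C := D2 B) x qa ha _ (eps_sq B) (by simp [qa, e1]), ev_zero x _ hz rfl,
      mor_ev (C := D2 B) x qb hb _ (eps_sq B) (by simp [qb, bcHom, e2]),
      mor_ev (C := D2 B) x qb hb _ hz (by simp [qb, bcHom, e1, TrivSqZeroExt.algebraMap_eq_inl']), ev_zero x _ hz rfl,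
      _root_.one_mul, _root_.mul_one]
  obtain ⟨z, hzw⟩ := exists_desc hthick qa qb (RingHom.ext fun a => a.2) (fun c hc => ⟨⟨c, hc⟩, rfl⟩)
    w.left (congrArg CommaMorphism.left hab)
  let σ : D2 B →+* D2 B := dualHom (dualHom (algebraMap B (D2 B)) (e2 B) (e2_sq B)) (e1 B) (e1_sq B)
  have hσ : σ.comp (algebraMap B (D2 B)) = algebraMap B _ := RingHom.ext fun b => by
    simp [σ, algebraMap_D2, toD2, TrivSqZeroExt.algebraMap_eq_inl']
  have hσw : mor f σ hσ ≫ w = w := by
    refine Over.OverMorphism.ext ?_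
    rw [Over.comp_left, ← hzw, mor_left, ← Category.assoc, ← Spec.map_comp, ← CommRingCat.ofHom_comp]
    congr 3
    refine RingHom.ext fun a => ?_
    have h : qa a.1 = qb a.1 := a.2
    have h' := congrArg TrivSqZeroExt.snd h
    simp [qa, qb, bcHom, TrivSqZeroExt.algebraMap_eq_inl'] at h'
    ext <;> simp [σ, algebraMap_D2, toD2, e1, e2, TrivSqZeroExt.algebraMap_eq_inl', h']
  rw [hw, MonObj.comp_mul, mor_ev (C := D2 B) x σ hσ _ (e1_sq B) (by simp [σ, e2]),
    mor_ev (C := D2 B) x σ hσ _ (e2_sq B) (by simp [σ, e1, TrivSqZeroExt.algebraMap_eq_inl'])] at hσw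
  rw [com, ← hσw]
  group

/-- Dual numbers in three variables. -/
abbrev D3 (B : Type u) [CommRing B] : Type u := DualNumber (D2 B)

theorem br_leibniz (x y z : Lie G B f) : br x (br y z) = br (br x y) z * br y (br x z) := by
  let d1 : D3 B := TrivSqZeroExt.inlHom (D2 B) (D2 B) (e1 B)
  let d2 : D3 B := TrivSqZeroExt.inlHom (D2 B) (D2 B) (e2 B)
  let d3 : D3 B := DualNumber.eps
  have h1 : d1 * d1 = 0 := by rw [← map_mul, e1_sq, map_zero]
  have h2 : d2 * d2 = 0 := by rw [← map_mul, e2_sq, map_zero]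
  have h3 : d3 * d3 = 0 := eps_sq (D2 B)
  have hp : ∀ a b : D3 B, a * a = 0 → b * a * (b * a) = 0 := fun a b ha => by
    rw [_root_.mul_mul_mul_comm, ha, mul_zero]
  have hE : d3 * d2 * d1 * (d3 * d2 * d1) = 0 := hp _ _ h1
  have hthick : IsNilThick (dualHom (algebraMap B (D3 B)) (d3 * d2 * d1) hE) := by
    refine ⟨(injective_iff_map_eq_zero _).mpr fun w hw => ?_, fun c => ⟨algebraMap B _ c.fst.fst.fst, ?_⟩⟩
    · have a := congrArg (fun w : D3 B => w.fst.fst.fst) hw
      have b := congrArg (fun w : D3 B => w.snd.snd.snd) hw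
      simp [d1, d2, d3, e1, e2, TrivSqZeroExt.algebraMap_eq_inl'] at a b
      ext
      · simpa using a
      · simpa using b
    · rw [TrivSqZeroExt.isNilpotent_iff_isNilpotent_fst, TrivSqZeroExt.isNilpotent_iff_isNilpotent_fst,
        TrivSqZeroExt.isNilpotent_iff_isNilpotent_fst]
      simp [d1, d2, d3, TrivSqZeroExt.algebraMap_eq_inl']
  refine ev_inj hE hthick ?_
  set X := ev x d1 h1 with hX
  set Y := ev y d2 h2 with hY
  set Z := ev z d3 h3 with hZ
  set P := ev (br x y) (d2 * d1) (hp _ _ h1) with hP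
  set Q := ev (br x z) (d3 * d1) (hp _ _ h1) with hQ
  set R := ev (br y z) (d3 * d2) (hp _ _ h2) with hR
  have cP : com G X Y = P := com_ev x y d1 d2 h1 h2 _
  have cQ : com G X Z = Q := com_ev x z d1 d3 h1 h3 _
  have cR : com G Y Z = R := com_ev y z d2 d3 h2 h3 _
  have e1' : com G X R = ev (br x (br y z)) (d3 * d2 * d1) hE := com_ev _ _ _ _ _ _ _
  have e2' : com G Y Q = ev (br y (br x z)) (d3 * d2 * d1) hE :=
    (com_ev y (br x z) d2 (d3 * d1) h2 (hp _ _ h1) (hp _ _ h2)).trans (ev_congr _ _ _ (by ring))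
  have e3' : com G P Z = ev (br (br x y) z) (d3 * d2 * d1) hE :=
    (com_ev (br x y) z (d2 * d1) d3 (hp _ _ h1) h3 (hp _ _ (hp _ _ h1))).trans (ev_congr _ _ _ (by ring))
  have kPQ : Commute P Q := commute_ev _ _ _ _ _ _ (by linear_combination (d2 * d3) * h1)
  have kPR : Commute P R := commute_ev _ _ _ _ _ _ (by linear_combination (d1 * d3) * h2)
  have kQR : Commute Q R := commute_ev _ _ _ _ _ _ (by linear_combination (d1 * d2) * h3)
  have kP : Commute P (com G Y Q) := e2' ▸ commute_ev _ _ _ _ _ _ (by linear_combination (d1 * d2 * d3) * h2 * 0 + d3 * d1 * d1 * h2)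
  have kQ : Commute Q (com G P Z) := e3' ▸ commute_ev _ _ _ _ _ _ (by linear_combination d3 * d3 * d2 * h1)
  have kR : Commute (com G P Z) R := e3' ▸ commute_ev _ _ _ _ _ _ (by linear_combination d3 * d3 * d1 * h2)
  have kE : Commute (com G Y Q) (com G P Z) := e2' ▸ e3' ▸ commute_ev _ _ _ _ _ _ (by linear_combination d3 * d3 * d2 * d2 * h1)
  rw [← e1', ev_mul, ← e3', ← e2', ← kE.eq]
  have step1 : com G (X * Y * X⁻¹) (X * Z * X⁻¹) = com G X R * R := by
    simp only [com, ← cR]; group
  have step2 : com G (P * Y) (Q * Z) =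
      P * (com G Y Q * (Q * R * Q⁻¹)) * P⁻¹ * (com G P Q * (Q * com G P Z * Q⁻¹)) := by
    simp only [com, ← cR]; group
  have hPY : X * Y * X⁻¹ = P * Y := by rw [← cP]; simp only [com]; group
  have hQZ : X * Z * X⁻¹ = Q * Z := by rw [← cQ]; simp only [com]; group
  have hPQ : com G P Q = 1 := by rw [com, kPQ.eq]; group
  rw [hPY, hQZ, step2, hPQ, kQR.eq, mul_inv_cancel_right, kQ.eq, mul_inv_cancel_right, _root_.one_mul] at step1
  rw [show P * (com G Y Q * R) = com G Y Q * R * P from ((kP.mul_right kPR)).eq, mul_inv_cancel_right,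
    _root_.mul_assoc, kR.symm.eq, ← _root_.mul_assoc, mul_left_inj] at step1
  exact step1.symm

theorem isBracket_br (x y : Lie G B f) : IsBracket G B f x y (br x y) := by
  have hd : Spec.map (CommRingCat.ofHom (algebraMap B (D2 B))) ≫ f = (d2pt B f).hom := by
    show _ = Spec.map _ ≫ Spec.map _ ≫ f
    rw [← Category.assoc, specMap_comp, algebraMap_D2]
  let a : d2pt B f ⟶ obj f (D2 B) := Over.homMk (𝟙 _) ((Category.id_comp _).trans hd)
  have key : ∀ (φ : DualNumber B →+* D2 B) (hφ : φ.comp (algebraMap B (DualNumber B)) = algebraMap B (D2 B))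
      (g : d2pt B f ⟶ dpt B f), g.left = Spec.map (CommRingCat.ofHom φ) →
      ∀ v : dpt B f ⟶ G, g ≫ v = a ≫ mor f φ hφ ≫ v := by
    intro φ hφ g hg v
    refine Over.OverMorphism.ext ?_
    simp only [Over.comp_left, hg, mor_left, a, Over.homMk_left]
    exact (Category.id_comp _).symm
  unfold IsBracket
  refine (key (mulHom B) (by rw [mulHom_comp_algebraMap, algebraMap_D2]) _ rfl (br x y).1).trans ?_
  have h1 : mor f (mulHom B) (by rw [mulHom_comp_algebraMap, algebraMap_D2]) ≫ (br x y).1 =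
      ev (br x y) (e1 B * e2 B) (e12_sq B) := by
    simp only [ev, mulHom_eq]
  have h2 : mor f (bcHom (algebraMap B (DualNumber B))) (by rw [bcHom_comp_algebraMap, algebraMap_D2]) ≫ x.1 =
      ev x (e2 B) (e2_sq B) := by
    simp only [ev, bcHom, algebraMap_D2]
  have h3 : mor f (algebraMap (DualNumber B) (D2 B)) (by rw [algebraMap_D2]) ≫ y.1 = ev y (e1 B) (e1_sq B) := by
    have : algebraMap (DualNumber B) (D2 B) = dualHom (algebraMap B (D2 B)) (e1 B) (e1_sq B) :=
      RingHom.ext fun z => by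
        ext <;> simp [algebraMap_D2, toD2, e1, TrivSqZeroExt.algebraMap_eq_inl']
    simp only [ev, ← this]
  refine (congrArg (a ≫ ·) (h1.trans (br_spec x y).symm)).trans ?_
  rw [comp_com]
  have e2' := (key (bcHom (algebraMap B (DualNumber B))) (by rw [bcHom_comp_algebraMap, algebraMap_D2])
    (dptMap f (algebraMap B (DualNumber B))) rfl x.1).trans (congrArg (a ≫ ·) h2)
  have e3' := (key (algebraMap (DualNumber B) (D2 B)) (by rw [algebraMap_D2])
    (proj (DualNumber B) (dpt B f).hom) rfl y.1).trans (congrArg (a ≫ ·) h3)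
  rw [← e2', ← e3']
  rfl

end Groth.Agent.LieSLib
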