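import Mathlib.AlgebraicGeometry.AffineScheme
import Mathlib.AlgebraicGeometry.Cover.Open
import Mathlib.AlgebraicGeometry.Gluing
import Mathlib.RingTheory.Localization.Away.Basic

/-!
# Morphisms out of an affine scheme agreeing on a jointly injective family of rings
-/

universe u

noncomputable section

open CategoryTheory AlgebraicGeometry

namespace Groth.Agent.LieSLib

theorem away_map_jointly_injective {A : Type u} [CommRing A] {J : Type*} [Finite J] {C : J → Type u}
    [∀ i, CommRing (C i)] (φ : ∀ i, A →+* C i) (hinj : ∀ s, (∀ i, φ i s = 0) → s = 0) (a : A)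
    (x : Localization.Away a)
    (hx : ∀ i, IsLocalization.Away.map (Localization.Away a) (Localization.Away (φ i a)) (φ i) a x = 0) :
    x = 0 := by
  classical
  have := Fintype.ofFinite J
  obtain ⟨⟨s, t⟩, hst⟩ := IsLocalization.mk'_surjective (Submonoid.powers a) x
  subst hst
  have h : ∀ i, ∃ m : ℕ, φ i a ^ m * φ i s = 0 := by
    intro i
    have := hx i
    rw [IsLocalization.Away.map, IsLocalization.map_mk', IsLocalization.mk'_eq_zero_iff] at this
    obtain ⟨⟨_, m, rfl⟩, hm⟩ := this
    exact ⟨m, hm⟩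
  choose m hm using h
  rw [IsLocalization.mk'_eq_zero_iff]
  refine ⟨⟨a ^ (Finset.univ.sup m), _, rfl⟩, hinj _ fun i => ?_⟩
  obtain ⟨k, hk⟩ := Nat.exists_eq_add_of_le (Finset.le_sup (f := m) (Finset.mem_univ i))
  rw [map_mul, map_pow, hk, pow_add, mul_comm _ (φ i a ^ k), mul_assoc, hm, mul_zero]

/-- Two morphisms out of `Spec A` agree if they agree after a jointly surjective and jointly injective
finite family of affine schemes. -/
theorem ext_of_jointly_injective {A : Type u} [CommRing A] {X : Scheme.{u}}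
    {u v : Spec (CommRingCat.of A) ⟶ X} {J : Type*} [Finite J] {C : J → Type u} [∀ i, CommRing (C i)]
    (φ : ∀ i, A →+* C i) (hinj : ∀ s, (∀ i, φ i s = 0) → s = 0)
    (hsurj : ∀ p : PrimeSpectrum A, ∃ i, p ∈ Set.range (PrimeSpectrum.comap (φ i)))
    (h : ∀ i, Spec.map (CommRingCat.ofHom (φ i)) ≫ u = Spec.map (CommRingCat.ofHom (φ i)) ≫ v) : u = v := by
  have hbase : ∀ p : Spec (CommRingCat.of A), u p = v p := by
    intro p
    obtain ⟨i, q, hq⟩ := hsurj p
    let q' : Spec (CommRingCat.of (C i)) := q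
    have e : Spec.map (CommRingCat.ofHom (φ i)) q' = p := hq
    have h1 := congrArg (fun f : Spec (CommRingCat.of (C i)) ⟶ X => f q') (h i)
    simp only [Scheme.Hom.comp_apply, e] at h1
    exact h1
  have hloc : ∀ p : Spec (CommRingCat.of A), ∃ a : A, p ∈ PrimeSpectrum.basicOpen a ∧
      Spec.map (CommRingCat.ofHom (algebraMap A (Localization.Away a))) ≫ u =
        Spec.map (CommRingCat.ofHom (algebraMap A (Localization.Away a))) ≫ v := by
    intro p
    obtain ⟨T, j, hj, hpj, -⟩ :=
      Scheme.exists_affine_mem_range_and_range_subset (X := X) (x := u p) (U := ⊤) trivial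
    obtain ⟨_, ⟨a, rfl⟩, hpa, hsub⟩ := PrimeSpectrum.isTopologicalBasis_basic_opens.exists_subset_of_mem_open
      (show p ∈ (u ⁻¹' Set.range j) from hpj) ((j.isOpenEmbedding.isOpen_range).preimage u.continuous)
    refine ⟨a, hpa, ?_⟩
    set g := Spec.map (CommRingCat.ofHom (algebraMap A (Localization.Away a)))
    have hg : ∀ z, g z ∈ (PrimeSpectrum.basicOpen a : Set (PrimeSpectrum A)) := fun z => by
      rw [← PrimeSpectrum.localization_away_comap_range (Localization.Away a) a]
      exact ⟨z, rfl⟩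
    have hu : Set.range (g ≫ u) ⊆ Set.range j := by
      rintro _ ⟨z, rfl⟩; exact hsub (hg z)
    have hv : Set.range (g ≫ v) ⊆ Set.range j := by
      rintro _ ⟨z, rfl⟩
      rw [Scheme.Hom.comp_apply, ← hbase]; exact hsub (hg z)
    obtain ⟨ψu, hψu⟩ := Spec.map_surjective (IsOpenImmersion.lift j (g ≫ u) hu)
    obtain ⟨ψv, hψv⟩ := Spec.map_surjective (IsOpenImmersion.lift j (g ≫ v) hv)
    rw [← IsOpenImmersion.lift_fac j (g ≫ u) hu, ← IsOpenImmersion.lift_fac j (g ≫ v) hv, ← hψu, ← hψv]
    suffices ψu = ψv by rw [this]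
    ext t
    rw [← sub_eq_zero]
    refine away_map_jointly_injective φ hinj a _ fun i => ?_
    set ρ := IsLocalization.Away.map (Localization.Away a) (Localization.Away (φ i a)) (φ i) a
    set γ := algebraMap (C i) (Localization.Away (φ i a))
    have hsq : Spec.map (CommRingCat.ofHom ρ) ≫ g =
        Spec.map (CommRingCat.ofHom γ) ≫ Spec.map (CommRingCat.ofHom (φ i)) := by
      rw [← Spec.map_comp, ← Spec.map_comp, ← CommRingCat.ofHom_comp, ← CommRingCat.ofHom_comp]
      congr 2
      exact IsLocalization.map_comp _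
    have e : Spec.map (CommRingCat.ofHom ρ) ≫ Spec.map ψu = Spec.map (CommRingCat.ofHom ρ) ≫ Spec.map ψv := by
      rw [← cancel_mono j, Category.assoc, Category.assoc, hψu, hψv, IsOpenImmersion.lift_fac,
        IsOpenImmersion.lift_fac, ← Category.assoc, ← Category.assoc, hsq, Category.assoc, Category.assoc, h i]
    rw [← Spec.map_comp, ← Spec.map_comp] at e
    rw [map_sub, sub_eq_zero]
    exact congrArg (fun f => f.hom t) (Spec.map_injective e)
  choose a ha heq using hloc
  let 𝒰 := Scheme.affineOpenCoverOfSpanRangeEqTop a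
    (PrimeSpectrum.iSup_basicOpen_eq_top_iff.mp (top_le_iff.mp fun p _ =>
      TopologicalSpace.Opens.mem_iSup.mpr ⟨p, ha p⟩))
  exact Scheme.Cover.hom_ext 𝒰.openCover u v heq

end Groth.Agent.LieSLib
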