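import Groth.Prelude.Def_LieS
import Groth.Agent.LieSLib.Ext

/-!
# Points with values in dual numbers
-/

universe u

noncomputable section

open CategoryTheory MonoidalCategory CartesianMonoidalCategory MonObj AlgebraicGeometry

namespace Groth.Agent.LieSLib

open LieS

variable {B : Type u} [CommRing B]

/-- Dual numbers in two variables with all products zero. -/
abbrev T2 (B : Type u) [CommRing B] : Type u := TrivSqZeroExt B (B × B)

/-- A ring map out of `T2 B`. -/
def lift2 {C : Type u} [CommRing C] (h : B →+* C) (c d : C) (hcc : c * c = 0) (hdd : d * d = 0)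
    (hcd : c * d = 0) : T2 B →+* C where
  toFun x := h x.fst + h x.snd.1 * c + h x.snd.2 * d
  map_one' := by simp
  map_zero' := by simp
  map_add' x y := by
    simp only [TrivSqZeroExt.fst_add, TrivSqZeroExt.snd_add, Prod.fst_add, Prod.snd_add, map_add]
    ring
  map_mul' x y := by
    simp only [TrivSqZeroExt.fst_mul, TrivSqZeroExt.snd_mul, Prod.fst_add, Prod.snd_add, Prod.smul_fst,
      Prod.smul_snd, op_smul_eq_smul, smul_eq_mul, map_add, map_mul]
    linear_combination (-(h x.snd.1 * h y.snd.1)) * hcc - (h x.snd.2 * h y.snd.2) * hdd -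
      (h x.snd.1 * h y.snd.2 + h x.snd.2 * h y.snd.1) * hcd

@[simp] theorem lift2_apply {C : Type u} [CommRing C] (h : B →+* C) (c d : C) (hcc : c * c = 0)
    (hdd : d * d = 0) (hcd : c * d = 0) (x : T2 B) :
    lift2 h c d hcc hdd hcd x = h x.fst + h x.snd.1 * c + h x.snd.2 * d := rfl

/-- The combination `b ε₁ + c ε₂`. -/
def lin (b c : B) : DualNumber B →+* T2 B :=
  dualHom (algebraMap B (T2 B)) (TrivSqZeroExt.inr (b, c)) (TrivSqZeroExt.inr_mul_inr _ _ _)

/-- Project to the first variable. -/
def q1 (B : Type u) [CommRing B] : T2 B →+* DualNumber B :=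
  lift2 (algebraMap B (DualNumber B)) DualNumber.eps 0 (eps_sq B) (mul_zero 0) (mul_zero _)

/-- Project to the second variable. -/
def q2 (B : Type u) [CommRing B] : T2 B →+* DualNumber B :=
  lift2 (algebraMap B (DualNumber B)) 0 DualNumber.eps (mul_zero 0) (eps_sq B) (zero_mul _)

/-- The diagonal. -/
def dlt (B : Type u) [CommRing B] : T2 B →+* DualNumber B :=
  lift2 (algebraMap B (DualNumber B)) DualNumber.eps DualNumber.eps (eps_sq B) (eps_sq B) (eps_sq B)

theorem scaleHom_apply (b : B) (x : DualNumber B) :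
    scaleHom b x = TrivSqZeroExt.inl x.fst + TrivSqZeroExt.inr (b * x.snd) := by
  ext <;> simp [scaleHom, TrivSqZeroExt.algebraMap_eq_inl', mul_comm]

theorem q1_lin (b c : B) : (q1 B).comp (lin b c) = scaleHom b :=
  RingHom.ext fun x => by
    ext <;> simp [q1, lin, scaleHom_apply, TrivSqZeroExt.algebraMap_eq_inl', mul_comm]

theorem q2_lin (b c : B) : (q2 B).comp (lin b c) = scaleHom c :=
  RingHom.ext fun x => by
    ext <;> simp [q2, lin, scaleHom_apply, TrivSqZeroExt.algebraMap_eq_inl', mul_comm]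

theorem dlt_lin (b c : B) : (dlt B).comp (lin b c) = scaleHom (b + c) :=
  RingHom.ext fun x => by
    ext <;> simp [dlt, lin, scaleHom_apply, TrivSqZeroExt.algebraMap_eq_inl', mul_comm, add_mul, mul_add]

variable {S : Scheme.{u}} (f : Spec (CommRingCat.of B) ⟶ S)

/-- An affine scheme over `Spec B`, over `S`. -/
abbrev obj (C : Type u) [CommRing C] [Algebra B C] : Over S :=
  Over.mk (Spec.map (CommRingCat.ofHom (algebraMap B C)) ≫ f)

/-- The morphism given by a ring map over `B`. -/
def mor {A C : Type u} [CommRing A] [CommRing C] [Algebra B A] [Algebra B C] (φ : A →+* C)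
    (h : φ.comp (algebraMap B A) = algebraMap B C) : obj f C ⟶ obj f A :=
  Over.homMk (Spec.map (CommRingCat.ofHom φ)) (by
    change Spec.map _ ≫ Spec.map _ ≫ f = Spec.map _ ≫ f
    rw [← Category.assoc, specMap_comp, h])

theorem mor_left {A C : Type u} [CommRing A] [CommRing C] [Algebra B A] [Algebra B C] (φ : A →+* C)
    (h : φ.comp (algebraMap B A) = algebraMap B C) : (mor f φ h).left = Spec.map (CommRingCat.ofHom φ) := rfl

theorem lin_alg (b c : B) : (lin b c).comp (algebraMap B (DualNumber B)) = algebraMap B (T2 B) :=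
  dualHom_comp_algebraMap _ _ _

theorem q1_alg : (q1 B).comp (algebraMap B (T2 B)) = algebraMap B (DualNumber B) :=
  RingHom.ext fun x => by simp [q1, TrivSqZeroExt.algebraMap_eq_inl']

theorem q2_alg : (q2 B).comp (algebraMap B (T2 B)) = algebraMap B (DualNumber B) :=
  RingHom.ext fun x => by simp [q2, TrivSqZeroExt.algebraMap_eq_inl']

theorem dlt_alg : (dlt B).comp (algebraMap B (T2 B)) = algebraMap B (DualNumber B) :=
  RingHom.ext fun x => by simp [dlt, TrivSqZeroExt.algebraMap_eq_inl']

/-- `ε ↦ b ε₁ + c ε₂` on schemes. -/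
def L (b c : B) : obj f (T2 B) ⟶ dpt B f := mor f (lin b c) (lin_alg b c)

/-- The first axis. -/
def Q1 : dpt B f ⟶ obj f (T2 B) := mor f (q1 B) q1_alg

/-- The second axis. -/
def Q2 : dpt B f ⟶ obj f (T2 B) := mor f (q2 B) q2_alg

/-- The diagonal. -/
def Dlt : dpt B f ⟶ obj f (T2 B) := mor f (dlt B) dlt_alg

theorem Q1_L (b c : B) : Q1 f ≫ L f b c = scale B f b := by
  ext; change Spec.map _ ≫ Spec.map _ = Spec.map _
  rw [specMap_comp, q1_lin]

theorem Q2_L (b c : B) : Q2 f ≫ L f b c = scale B f c := by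
  ext; change Spec.map _ ≫ Spec.map _ = Spec.map _
  rw [specMap_comp, q2_lin]

theorem Dlt_L (b c : B) : Dlt f ≫ L f b c = scale B f (b + c) := by
  ext; change Spec.map _ ≫ Spec.map _ = Spec.map _
  rw [specMap_comp, dlt_lin]

theorem glue_ext {X : Over S} {u v : obj f (T2 B) ⟶ X} (h1 : Q1 f ≫ u = Q1 f ≫ v)
    (h2 : Q2 f ≫ u = Q2 f ≫ v) : u = v := by
  ext
  refine ext_of_jointly_injective (J := Bool) (C := fun _ => DualNumber B)
    (fun b => bif b then q1 B else q2 B) (fun s hs => ?_) (fun p => ⟨true, ?_⟩) ?_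
  · have h1 := hs true
    have h2 := hs false
    have e1 := congrArg TrivSqZeroExt.fst h1
    have e2 := congrArg TrivSqZeroExt.snd h1
    have e3 := congrArg TrivSqZeroExt.snd h2
    simp [q1, q2, TrivSqZeroExt.algebraMap_eq_inl'] at e1 e2 e3
    ext
    · simpa using e1
    · simpa using e2
    · simpa using e3
  · refine ⟨PrimeSpectrum.comap (lin (1 : B) 1) p, ?_⟩
    ext x
    simp only [PrimeSpectrum.comap_asIdeal, Ideal.mem_comap, cond_true]
    have hn : IsNilpotent (lin (1 : B) 1 (q1 B x) - x) := by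
      refine ⟨2, ?_⟩
      have : (lin (1 : B) 1 (q1 B x) - x).fst = 0 := by
        simp [lin, q1, TrivSqZeroExt.algebraMap_eq_inl']
      rw [sq]
      ext <;> simp [this]
    have hm : lin (1 : B) 1 (q1 B x) - x ∈ p.asIdeal := by
      obtain ⟨n, hn⟩ := hn
      exact p.2.mem_of_pow_mem n (hn ▸ p.asIdeal.zero_mem)
    constructor
    · intro h; simpa using sub_mem h hm
    · intro h; simpa using add_mem hm h
  · intro b
    cases b
    · exact congrArg (fun g => g.left) h2
    · exact congrArg (fun g => g.left) h1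

theorem scale_one : scale B f 1 = 𝟙 _ := by
  ext; change Spec.map _ = 𝟙 _
  rw [show scaleHom (1 : B) = RingHom.id _ from RingHom.ext fun x => by
    ext <;> simp [scaleHom_apply]]
  exact Spec.map_id _

theorem scale_zero : scale B f 0 = proj B f ≫ zeroSec B f := by
  ext; change Spec.map _ = Spec.map _ ≫ Spec.map _
  rw [specMap_comp]
  congr 2
  exact RingHom.ext fun x => by ext <;> simp [scaleHom_apply, TrivSqZeroExt.algebraMap_eq_inl']

variable {X : Over S} [MonObj X]

theorem scale_zero_comp {w : dpt B f ⟶ X} (hw : zeroSec B f ≫ w = 1) : scale B f 0 ≫ w = 1 := by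
  rw [scale_zero, Category.assoc, hw, comp_one]

/-- On points trivial along the zero section, the product is the addition. -/
theorem scale_add_comp {w : dpt B f ⟶ X} (hw : zeroSec B f ≫ w = 1) (b c : B) :
    scale B f (b + c) ≫ w = (scale B f b ≫ w) * (scale B f c ≫ w) := by
  have e : L f b c ≫ w = (L f b 0 ≫ w) * (L f 0 c ≫ w) := by
    refine glue_ext f ?_ ?_ <;>
      simp only [comp_mul, ← Category.assoc, Q1_L, Q2_L, scale_zero_comp f hw, _root_.mul_one, _root_.one_mul]
  rw [← Dlt_L f b c, Category.assoc, e, comp_mul, ← Category.assoc, ← Category.assoc, Dlt_L, Dlt_L,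
    add_zero, zero_add]

theorem comm_of_zeroSec {w w' : dpt B f ⟶ X} (hw : zeroSec B f ≫ w = 1) (hw' : zeroSec B f ≫ w' = 1) :
    w * w' = w' * w := by
  have e : (L f 1 0 ≫ w) * (L f 0 1 ≫ w') = (L f 0 1 ≫ w') * (L f 1 0 ≫ w) := by
    refine glue_ext f ?_ ?_ <;>
      simp only [comp_mul, ← Category.assoc, Q1_L, Q2_L, scale_zero_comp f hw, scale_zero_comp f hw',
        _root_.mul_one, _root_.one_mul]
  have := congrArg (Dlt f ≫ ·) e
  simpa only [comp_mul, ← Category.assoc, Dlt_L, add_zero, zero_add, scale_one, Category.id_comp] using this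

theorem mul_scale_neg_one {w : dpt B f ⟶ X} (hw : zeroSec B f ≫ w = 1) :
    w * (scale B f (-1) ≫ w) = 1 ∧ (scale B f (-1) ≫ w) * w = 1 := by
  have h1 := scale_add_comp f hw 1 (-1)
  have h2 := scale_add_comp f hw (-1) 1
  rw [add_neg_cancel, scale_zero_comp f hw, scale_one, Category.id_comp] at h1
  rw [neg_add_cancel, scale_zero_comp f hw, scale_one, Category.id_comp] at h2
  exact ⟨h1.symm, h2.symm⟩

end Groth.Agent.LieSLib
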